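import Groth.Agent.RatSectionLin.Eff
import Groth.Agent.RatSectionLin.Generic
import Groth.Agent.AlgGrp2.AffinePts

/-!
Generic triviality of torsors and extensions under groups with effective cocycles.
-/

set_option autoImplicit false
set_option backward.isDefEq.respectTransparency false
set_option maxHeartbeats 400000

universe u

open CategoryTheory CategoryTheory.Limits MonoidalCategory CartesianMonoidalCategory MonObj GrpObj AlgebraicGeometry
open Algebra.TensorProduct (includeLeft includeRight map)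
open scoped TensorProduct
open Groth.Pi1Tors Groth.AlgGrp2

noncomputable section

namespace Groth.RatSectionLin

variable {k K : Type u} [Field k] [Field K] [Algebra k K] {S : Scheme.{u}}
  (ξ : Spec (CommRingCat.of K) ⟶ S) (qS : S ⟶ Spec (CommRingCat.of k))
  (hη : ξ ≫ qS = Spec.map (CommRingCat.ofHom (algebraMap k K)))

include hη in
lemma spO_w (R : Type u) [CommRing R] [Algebra k R] [Algebra K R] [IsScalarTower k K R] :
    (spO ξ R).hom ≫ qS = (CoactBr.sp k R).hom := by
  show (Spec.map _ ≫ ξ) ≫ qS = Spec.map (CommRingCat.ofHom (algebraMap k R))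
  rw [Category.assoc, hη, ← Spec.map_comp, IsScalarTower.algebraMap_eq k K R]
  rfl

/-- `spO ξ R` as a scheme over `k` -/
def toMap (R : Type u) [CommRing R] [Algebra k R] [Algebra K R] [IsScalarTower k K R] :
    CoactBr.sp k R ⟶ (Over.map qS).obj (spO ξ R) :=
  Over.homMk (𝟙 (Spec (CommRingCat.of R))) ((Category.id_comp _).trans (spO_w ξ qS hη R))

/-- inverse of `toMap` -/
def ofMap (R : Type u) [CommRing R] [Algebra k R] [Algebra K R] [IsScalarTower k K R] :
    (Over.map qS).obj (spO ξ R) ⟶ CoactBr.sp k R :=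
  Over.homMk (𝟙 (Spec (CommRingCat.of R))) ((Category.id_comp _).trans (spO_w ξ qS hη R).symm)

variable {B : Over (Spec (CommRingCat.of k))} [GrpObj B]

/-- points of the pulled back group as points over `k` -/
def gpt {R : Type u} [CommRing R] [Algebra k R] [Algebra K R] [IsScalarTower k K R]
    (g : spO ξ R ⟶ Red.bc qS B) : CoactBr.sp k R ⟶ B :=
  toMap ξ qS hη R ≫ bcPt qS g

/-- points over `k` as points of the pulled back group -/
def gptInv {R : Type u} [CommRing R] [Algebra k R] [Algebra K R] [IsScalarTower k K R]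
    (b : CoactBr.sp k R ⟶ B) : spO ξ R ⟶ Red.bc qS B :=
  bcPtInv qS (ofMap ξ qS hη R ≫ b)

lemma gpt_gptInv {R : Type u} [CommRing R] [Algebra k R] [Algebra K R] [IsScalarTower k K R]
    (b : CoactBr.sp k R ⟶ B) : gpt ξ qS hη (gptInv ξ qS hη b) = b := by
  rw [gpt, gptInv, bcPt_bcPtInv, ← Category.assoc]
  refine (congrArg (· ≫ b) ?_).trans (Category.id_comp b)
  exact Over.OverMorphism.ext (Category.id_comp _)

lemma gpt_mul {R : Type u} [CommRing R] [Algebra k R] [Algebra K R] [IsScalarTower k K R]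
    (g h : spO ξ R ⟶ Red.bc qS B) : gpt ξ qS hη (g * h) = gpt ξ qS hη g * gpt ξ qS hη h := by
  rw [gpt, gpt, gpt, bcPt_mul, MonObj.comp_mul]

lemma gpt_injective {R : Type u} [CommRing R] [Algebra k R] [Algebra K R] [IsScalarTower k K R] :
    Function.Injective (gpt ξ qS hη (B := B) (R := R)) := fun g h e => by
  have e' : ofMap ξ qS hη R ≫ toMap ξ qS hη R = 𝟙 _ := Over.OverMorphism.ext (Category.id_comp _)
  refine bcPt_injective qS ?_
  have := congrArg (ofMap ξ qS hη R ≫ ·) e
  simp only [gpt, ← Category.assoc, e', Category.id_comp] at this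
  exact this

lemma gpt_comp {R R' : Type u} [CommRing R] [Algebra k R] [Algebra K R] [IsScalarTower k K R]
    [CommRing R'] [Algebra k R'] [Algebra K R'] [IsScalarTower k K R'] (f : R →ₐ[K] R')
    (g : spO ξ R ⟶ Red.bc qS B) : gpt ξ qS hη (spOMap ξ f ≫ g) = rpt f ≫ gpt ξ qS hη g := by
  rw [gpt, gpt, bcPt_comp, ← Category.assoc, ← Category.assoc]
  congr 1

include hη in
/-- torsors under groups with effective cocycles have points over the field of the base point -/
theorem exists_point_of_eff [IsCommMonObj B] (hB : Eff K B) {X : Over S} [Surjective X.hom]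
    (a : AlgGrp.Action (Red.bc qS B) X) (ha : NonAbH1.IsPseudoTorsorSch a) :
    ∃ y : Spec (CommRingCat.of K) ⟶ X.left, y ≫ X.hom = ξ := by
  obtain ⟨L, _, _, ⟨x⟩⟩ := exists_field_point ξ X
  letI : Algebra k L := ((algebraMap K L).comp (algebraMap k K)).toAlgebra
  haveI : IsScalarTower k K L := .of_algebraMap_eq fun _ => rfl
  obtain ⟨g, hg⟩ := exists_dot_eq a ha (spOMap ξ includeRight ≫ x)
    (spOMap ξ (includeLeft : L →ₐ[K] L ⊗[K] L) ≫ x)
  have hcoc : IsCocycle K (gpt ξ qS hη g) := by
    unfold IsCocycle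
    rw [mul_comm, ← gpt_comp, ← gpt_comp, ← gpt_comp, ← gpt_mul]
    congr 1
    refine dot_cancel a ha (x := spOMap ξ ((map (AlgHom.id K L) (includeRight : L →ₐ[K] L ⊗[K] L)).comp
      includeLeft) ≫ x) ?_
    rw [mul_dot]
    have h : ∀ {R : Type u} [CommRing R] [Algebra K R] (f : L ⊗[K] L →ₐ[K] R),
        dot a (spOMap ξ f ≫ g) (spOMap ξ (f.comp includeLeft) ≫ x) = spOMap ξ (f.comp includeRight) ≫ x :=
      fun f => by
        rw [spOMap_comp, spOMap_comp, Category.assoc, Category.assoc, ← hg, comp_dot]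
    have e1 : (map (AlgHom.id K L) (includeRight : L →ₐ[K] L ⊗[K] L)).comp includeLeft =
        (map (AlgHom.id K L) (includeLeft : L →ₐ[K] L ⊗[K] L)).comp includeLeft := by
      simp [Algebra.TensorProduct.map_comp_includeLeft]
    rw [h, e1, h, show (map (AlgHom.id K L) (includeLeft : L →ₐ[K] L ⊗[K] L)).comp includeRight =
        (includeRight : L ⊗[K] L →ₐ[K] L ⊗[K] (L ⊗[K] L)).comp includeLeft by
      simp [Algebra.TensorProduct.map_comp_includeRight], h]
    simp [Algebra.TensorProduct.map_comp_includeRight]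
  obtain ⟨L', _, _, _, _, j, b, hb⟩ := hB L _ hcoc
  obtain ⟨b', rfl⟩ : ∃ b', gpt ξ qS hη b' = b := ⟨_, gpt_gptInv ξ qS hη b⟩
  let x' := dot a b'⁻¹ (spOMap ξ j ≫ x)
  have hb₂ : (spOMap ξ (map j j) ≫ g) * (spOMap ξ includeLeft ≫ b') = spOMap ξ includeRight ≫ b' := by
    apply gpt_injective ξ qS hη
    rw [gpt_mul, gpt_comp, gpt_comp, gpt_comp, hb, cobound, div_mul_cancel]
  haveI : IsCommMonObj (Red.bc qS B) := inferInstance
  have heq : spOMap ξ (includeLeft : L' →ₐ[K] L' ⊗[K] L') ≫ x' = spOMap ξ includeRight ≫ x' := by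
    have h' := congrArg (spOMap ξ (map j j) ≫ ·) hg
    simp only [comp_dot, ← Category.assoc, ← spOMap_comp, Algebra.TensorProduct.map_comp_includeRight,
      Algebra.TensorProduct.map_comp_includeLeft] at h'
    simp only [x', comp_dot, ← Category.assoc, ← spOMap_comp, GrpObj.comp_inv]
    rw [← h', ← mul_dot]
    congr 1
    rw [← hb₂, mul_inv (spOMap ξ (map j j) ≫ g), mul_comm ((spOMap ξ (map j j) ≫ g)⁻¹) _, inv_mul_cancel_right]
  exact exists_desc ξ x' heq

end Groth.RatSectionLin
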